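import Cfsg.Agent.H535.RIM.Ov2
import Cfsg.Agent.H620.RIM.Div

/-!
# Quadratic certificates for the characters over a faithful character of the centre (helper535, S4816)

`N = |G / Z|`, columns `W` (with marks `I`), pairwise orthogonal over `c`, orthogonal to the degrees; the check runs over
all divisors `d` of `N` with `|Z| ∣ d`, `¬ p ∣ d`, `d ^ 2 ≤ N` and all admissible values of the columns.

* `card_dvd_deg` : `|Z| ∣ χ(1)`, `G` perfect, `c` faithful;
* `cert` : the certificate gives `χ` over `c` with `p ∣ χ(1)`.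
-/

set_option autoImplicit false
set_option linter.unusedSectionVars false

open Cfsg Subgroup
open scoped ComplexConjugate

namespace Cfsg.Agent.H535.RIM

open Cfsg.Agent.Characters.Core Cfsg.Agent.H622.Over Cfsg.Agent.H382.RIM
open Cfsg.Agent.H653.Sieve

universe u

variable {G : Type u} [Group G] [Finite G]

theorem card_dvd_deg {Z : Subgroup G} (hZ : Z ≤ center G) (hperf : commutator G = ⊤) {c : Z →* ℂˣ}
    (hc : Function.Injective c) {χ : G → ℂ} (hχ : IsIrrCharacter G χ) (hl : Lies Z c χ) : Nat.card Z ∣ charDegree χ := by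
  have hdeg : χ 1 = (charDegree χ : ℂ) := Blocks.Knorr.charDegree_eq hχ
  obtain ⟨n, ρ, hρ, hχe⟩ := hχ
  subst hχe
  have h1 : ρ.character 1 ≠ 0 := isIrr_apply_one_ne_zero ⟨n, ρ, hρ, rfl⟩
  have hn : charDegree ρ.character = n := by
    have h2 : ρ.character 1 = (n : ℂ) := by
      rw [Representation.char_one, Module.finrank_fintype_fun_eq_card, Fintype.card_fin]
    rw [hdeg] at h2
    exact_mod_cast h2
  have hpow : ∀ z : Z, (c z) ^ n = 1 := by
    intro z
    obtain ⟨μ, hμ⟩ := OddOrderCharacters.ClassSum.schur_scalar ρ hρ (ρ z)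
      (fun g => by
        have h1 : (z : G) * g = g * z := (mem_center_iff.1 (hZ z.2) g).symm
        have h2 := congrArg ρ h1
        rwa [map_mul, map_mul] at h2)
    have h2 : μ = (c z : ℂ) := by
      have h3 := hl 1 z
      rw [one_mul] at h3
      have h4 : ρ.character z = μ * ρ.character 1 := by
        rw [Representation.character, hμ, map_smul, Representation.char_one]
        simp
      rw [h4, mul_comm] at h3
      exact mul_left_cancel₀ h1 h3
    have h5 : LinearMap.det (ρ z) = 1 := by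
      have h6 : (LinearMap.det.comp ρ : G →* ℂ).toHomUnits (z : G) = 1 := by
        have h7 : (z : G) ∈ commutator G := by rw [hperf]; exact mem_top _
        have h8 : commutator G ≤ (LinearMap.det.comp ρ : G →* ℂ).toHomUnits.ker := by
          rw [commutator_def, Subgroup.commutator_le]
          intro a _ b _
          rw [MonoidHom.mem_ker, map_commutatorElement, commutatorElement_eq_one_iff_mul_comm]
          exact mul_comm _ _
        exact h8 h7
      have h9 := congrArg Units.val h6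
      rwa [MonoidHom.coe_toHomUnits, Units.val_one] at h9
    rw [hμ, LinearMap.det_smul, LinearMap.det_id, mul_one, h2, Module.finrank_fintype_fun_eq_card, Fintype.card_fin] at h5
    apply Units.ext
    rw [Units.val_pow_eq_pow_val, h5, Units.val_one]
  have hcyc : IsCyclic Z := isCyclic_of_injective_ringHom ((Units.coeHom ℂ).comp c)
    (Units.val_injective.comp hc)
  obtain ⟨z, hz⟩ := IsCyclic.exists_ofOrder_eq_natCard (α := Z)
  rw [hn, ← hz, ← orderOf_injective c hc z]
  exact orderOf_dvd_of_pow_eq_one (hpow z)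

/-! ### The forms -/

def dotL : List ℤ → List ℤ → ℤ
  | a :: as, x :: xs => a * x + dotL as xs
  | _, _ => 0

def qfL : List (List ℤ) → List ℤ → ℤ
  | r :: rs, x :: xs => x * dotL r (x :: xs) + qfL rs xs
  | _, _ => 0

def totL : List (List ℤ) → List ℤ → ℤ
  | (a :: _) :: rs, q :: qs => a * q + totL rs qs
  | [] :: rs, _ :: qs => totL rs qs
  | _, _ => 0

variable [Fintype (IrrCharacter G)]

/-- pairwise orthogonal functions -/
def Ort (s : Finset (IrrCharacter G)) : List (IrrCharacter G → ℤ) → List ℤ → Prop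
  | X :: Xs, q :: qs => (∑ χ ∈ s, X χ * X χ = q) ∧ (∀ Y ∈ Xs, ∑ χ ∈ s, X χ * Y χ = 0) ∧ Ort s Xs qs
  | [], [] => True
  | _, _ => False

theorem sum_dotL {s : Finset (IrrCharacter G)} {X : IrrCharacter G → ℤ} :
    ∀ (as : List ℤ) (Xs : List (IrrCharacter G → ℤ)), (∀ Y ∈ Xs, ∑ χ ∈ s, X χ * Y χ = 0) →
      ∑ χ ∈ s, X χ * dotL as (Xs.map fun Y => Y χ) = 0
  | [], _, _ => by simp [dotL]
  | _ :: _, [], _ => by simp [dotL]
  | a :: as, Y :: Xs, h => by
    have h1 := sum_dotL as Xs fun Y hY => h Y (List.mem_cons_of_mem _ hY)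
    have h2 := h Y List.mem_cons_self
    simp only [List.map_cons, dotL]
    have h3 : ∀ χ : IrrCharacter G, X χ * (a * Y χ + dotL as (Xs.map fun Y => Y χ)) =
        a * (X χ * Y χ) + X χ * dotL as (Xs.map fun Y => Y χ) := fun χ => by ring
    rw [Finset.sum_congr rfl fun χ _ => h3 χ, Finset.sum_add_distrib, ← Finset.mul_sum, h2, h1, mul_zero, add_zero]

theorem sum_qfL {s : Finset (IrrCharacter G)} :
    ∀ (A : List (List ℤ)) (Xs : List (IrrCharacter G → ℤ)) (qs : List ℤ), Ort s Xs qs →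
      ∑ χ ∈ s, qfL A (Xs.map fun Y => Y χ) = totL A qs
  | [], Xs, qs, _ => by
    cases Xs <;> simp [qfL, totL]
  | _ :: _, [], [], _ => by simp [qfL, totL]
  | _ :: _, [], _ :: _, h => h.elim
  | _ :: _, _ :: _, [], h => h.elim
  | r :: rs, X :: Xs, q :: qs, h => by
    obtain ⟨h1, h2, h3⟩ := h
    have ih := sum_qfL rs Xs qs h3
    simp only [List.map_cons, qfL, Finset.sum_add_distrib]
    rw [ih]
    cases r with
    | nil => simp [dotL, totL]
    | cons a as =>
      simp only [dotL, totL]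
      have h4 : ∀ χ : IrrCharacter G, X χ * (a * X χ + dotL as (Xs.map fun Y => Y χ)) =
          a * (X χ * X χ) + X χ * dotL as (Xs.map fun Y => Y χ) := fun χ => by ring
      rw [Finset.sum_congr rfl fun χ _ => h4 χ, Finset.sum_add_distrib, ← Finset.mul_sum, h1, sum_dotL as Xs h2, add_zero]

/-- the sums of the marks -/
def Cnt (s : Finset (IrrCharacter G)) : List (IrrCharacter G → ℤ) → List ℤ → Prop
  | X :: Xs, q :: qs => (∑ χ ∈ s, X χ = q) ∧ Cnt s Xs qs
  | [], [] => True
  | _, _ => False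

theorem sum_cnt {s : Finset (IrrCharacter G)} :
    ∀ (as : List ℤ) (Xs : List (IrrCharacter G → ℤ)) (qs : List ℤ), Cnt s Xs qs →
      ∑ χ ∈ s, dotL as (Xs.map fun Y => Y χ) = dotL as qs
  | [], _, _, _ => by simp [dotL]
  | _ :: _, [], [], _ => by simp [dotL]
  | _ :: _, [], _ :: _, h => h.elim
  | _ :: _, _ :: _, [], h => h.elim
  | a :: as, X :: Xs, q :: qs, h => by
    obtain ⟨h1, h2⟩ := h
    simp only [List.map_cons, dotL]
    rw [Finset.sum_add_distrib, ← Finset.mul_sum, h1, sum_cnt as Xs qs h2]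

/-! ### The check -/

def chkC : List (ℕ × List (ℕ × ℤ × ℤ)) → ℕ → (List ℤ → List ℤ → Bool) → Bool
  | [], _, k => k [] []
  | c :: cs, d, k => c.2.all fun x => !(Nat.beq (d % c.1) x.1) ||
      chkC cs d fun ws is => k (x.2.1 :: ws) (x.2.2 :: is)

/-- the values are admissible -/
def Mem (d : ℕ) : List (ℕ × List (ℕ × ℤ × ℤ)) → List ℤ → List ℤ → Prop
  | c :: cs, w :: ws, i :: is => (d % c.1, w, i) ∈ c.2 ∧ Mem d cs ws is
  | [], [], [] => True
  | _, _, _ => False

theorem chkC_spec {d : ℕ} : ∀ {cs : List (ℕ × List (ℕ × ℤ × ℤ))} {k : List ℤ → List ℤ → Bool} {ws is : List ℤ},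
    chkC cs d k = true → Mem d cs ws is → k ws is = true
  | [], _, [], [], h, _ => h
  | [], _, [], _ :: _, _, hm => hm.elim
  | [], _, _ :: _, _, _, hm => by cases hm
  | _ :: _, _, [], _, _, hm => by cases hm
  | _ :: _, _, _ :: _, [], _, hm => by cases hm
  | c :: cs, k, w :: ws, i :: is, h, hm => by
    obtain ⟨h1, h2⟩ := hm
    have h3 := List.all_eq_true.1 h _ h1
    rw [Nat.beq_refl, Bool.not_true, Bool.false_or] at h3
    exact chkC_spec (k := fun ws is => k (w :: ws) (i :: is)) h3 h2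

def chkD (N m p : ℕ) (A : List (List ℤ)) (h : List ℤ) (cs : List (ℕ × List (ℕ × ℤ × ℤ))) (d : ℕ) : Bool :=
  bif Nat.ble (N + 1) (d * d) then true else bif Nat.beq (d % p) 0 then true else bif Nat.beq (d % m) 0 then
    chkC cs d fun ws is => decide (0 ≤ qfL A ((d : ℤ) :: ws) + dotL h is)
  else true

theorem chkD_spec {N m p : ℕ} {A : List (List ℤ)} {h : List ℤ} {cs : List (ℕ × List (ℕ × ℤ × ℤ))} {d : ℕ}
    (hc : chkD N m p A h cs d = true) (hd : d * d < N + 1) (hp : ¬ p ∣ d) (hm : m ∣ d) {ws is : List ℤ}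
    (hM : Mem d cs ws is) : 0 ≤ qfL A ((d : ℤ) :: ws) + dotL h is := by
  have e1 : Nat.ble (N + 1) (d * d) = false := by
    rw [Bool.eq_false_iff]
    intro h'
    exact absurd (Nat.le_of_ble_eq_true h') (by omega)
  have e2 : Nat.beq (d % p) 0 = false := by
    rw [Bool.eq_false_iff]
    intro h'
    exact hp (Nat.dvd_of_mod_eq_zero (Nat.eq_of_beq_eq_true h'))
  have e3 : Nat.beq (d % m) 0 = true := by rw [Nat.mod_eq_zero_of_dvd hm]; rfl
  rw [chkD, e1, cond_false, e2, cond_false, e3, cond_true] at hc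
  exact of_decide_eq_true (chkC_spec hc hM)

/-- **The certificate.** -/
theorem cert {Z : Subgroup G} [Z.Normal] (hZ : Z ≤ center G) (hperf : commutator G = ⊤) {c : Z →* ℂˣ}
    (hc : Function.Injective c) {N m p : ℕ} (hm : Nat.card Z = m) (hN : Nat.card (G ⧸ Z) = N)
    {A : List (List ℤ)} {h : List ℤ} {cs : List (ℕ × List (ℕ × ℤ × ℤ))} {fac : List (ℕ × ℕ)}
    (hfac : facProd fac = N) (hprime : ∀ pa ∈ fac, pa.1.Prime)
    (hchk : allDiv (N + 1) (chkD N m p A h cs) fac 1 = true)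
    {Ws Is : List (IrrCharacter G → ℤ)} {qs ss : List ℤ}
    (hW : Ort (ov Z c) ((fun χ => (deg χ : ℤ)) :: Ws) ((N : ℤ) :: qs)) (hI : Cnt (ov Z c) Is ss)
    (hM : ∀ χ : IrrCharacter G, Lies Z c (χ : G → ℂ) → Mem (deg χ) cs (Ws.map fun Y => Y χ) (Is.map fun Y => Y χ))
    (htot : totL A ((N : ℤ) :: qs) + dotL h ss < 0) :
    ∃ χ : IrrCharacter G, Lies Z c (χ : G → ℂ) ∧ p ∣ charDegree (χ : G → ℂ) := by
  classical
  have hfG := Fintype.ofFinite G
  by_contra hcon
  push Not at hcon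
  have hsum : ∑ χ ∈ ov Z c, (qfL A ((deg χ : ℤ) :: (Ws.map fun Y => Y χ)) + dotL h (Is.map fun Y => Y χ)) =
      totL A ((N : ℤ) :: qs) + dotL h ss := by
    rw [Finset.sum_add_distrib, sum_cnt h Is ss hI]
    congr 1
    exact sum_qfL A _ _ hW
  have hnn : 0 ≤ ∑ χ ∈ ov Z c, (qfL A ((deg χ : ℤ) :: (Ws.map fun Y => Y χ)) + dotL h (Is.map fun Y => Y χ)) := by
    refine Finset.sum_nonneg fun χ hχ => ?_
    have hl := mem_ov.1 hχ
    have hdN : deg χ ∣ facProd fac := by
      have h1 := H639.charDegree_dvd_index hZ χ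
      rw [Subgroup.index_eq_card, hN, ← hfac] at h1
      exact h1
    have hsq : deg χ * deg χ < N + 1 := by
      have h1 : (deg χ : ℤ) * (deg χ : ℤ) ≤ ∑ χ ∈ ov Z c, (deg χ : ℤ) * (deg χ : ℤ) :=
        Finset.single_le_sum (f := fun χ : IrrCharacter G => (deg χ : ℤ) * (deg χ : ℤ)) (fun _ _ => mul_self_nonneg _) hχ
      rw [hW.1] at h1
      have h2 : deg χ * deg χ ≤ N := by exact_mod_cast h1
      omega
    have hk := allDiv_spec hprime hchk (deg χ) hdN (by rwa [one_mul])
    rw [one_mul] at hk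
    exact chkD_spec hk hsq (hcon χ hl) (hm ▸ card_dvd_deg hZ hperf hc χ.2 hl) (hM χ hl)
  rw [hsum] at hnn
  omega

/-- The certificate, the divisors of the `p'`-part only. -/
theorem certq {Z : Subgroup G} [Z.Normal] (hZ : Z ≤ center G) (hperf : commutator G = ⊤) {c : Z →* ℂˣ}
    (hc : Function.Injective c) {N m p q : ℕ} (hp : p.Prime) (hm : Nat.card Z = m) (hN : Nat.card (G ⧸ Z) = N)
    {A : List (List ℤ)} {h : List ℤ} {cs : List (ℕ × List (ℕ × ℤ × ℤ))} {fac : List (ℕ × ℕ)}
    (hfac : facProd fac * p ^ q = N) (hprime : ∀ pa ∈ fac, pa.1.Prime)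
    (hchk : allDiv (N + 1) (chkD N m p A h cs) fac 1 = true)
    {Ws Is : List (IrrCharacter G → ℤ)} {qs ss : List ℤ}
    (hW : Ort (ov Z c) ((fun χ => (deg χ : ℤ)) :: Ws) ((N : ℤ) :: qs)) (hI : Cnt (ov Z c) Is ss)
    (hM : ∀ χ : IrrCharacter G, Lies Z c (χ : G → ℂ) → Mem (deg χ) cs (Ws.map fun Y => Y χ) (Is.map fun Y => Y χ))
    (htot : totL A ((N : ℤ) :: qs) + dotL h ss < 0) :
    ∃ χ : IrrCharacter G, Lies Z c (χ : G → ℂ) ∧ p ∣ charDegree (χ : G → ℂ) := by
  classical
  have hfG := Fintype.ofFinite G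
  by_contra hcon
  push Not at hcon
  have hsum : ∑ χ ∈ ov Z c, (qfL A ((deg χ : ℤ) :: (Ws.map fun Y => Y χ)) + dotL h (Is.map fun Y => Y χ)) =
      totL A ((N : ℤ) :: qs) + dotL h ss := by
    rw [Finset.sum_add_distrib, sum_cnt h Is ss hI]
    congr 1
    exact sum_qfL A _ _ hW
  have hnn : 0 ≤ ∑ χ ∈ ov Z c, (qfL A ((deg χ : ℤ) :: (Ws.map fun Y => Y χ)) + dotL h (Is.map fun Y => Y χ)) := by
    refine Finset.sum_nonneg fun χ hχ => ?_
    have hl := mem_ov.1 hχ
    have hdN : deg χ ∣ facProd fac := by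
      have h1 := H639.charDegree_dvd_index hZ χ
      rw [Subgroup.index_eq_card, hN, ← hfac] at h1
      exact (Nat.Coprime.pow_right q ((Nat.Prime.coprime_iff_not_dvd hp).2 (hcon χ hl)).symm).dvd_of_dvd_mul_right h1
    have hsq : deg χ * deg χ < N + 1 := by
      have h1 : (deg χ : ℤ) * (deg χ : ℤ) ≤ ∑ χ ∈ ov Z c, (deg χ : ℤ) * (deg χ : ℤ) :=
        Finset.single_le_sum (f := fun χ : IrrCharacter G => (deg χ : ℤ) * (deg χ : ℤ)) (fun _ _ => mul_self_nonneg _) hχ
      rw [hW.1] at h1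
      have h2 : deg χ * deg χ ≤ N := by exact_mod_cast h1
      omega
    have hk := allDiv_spec hprime hchk (deg χ) hdN (by rwa [one_mul])
    rw [one_mul] at hk
    exact chkD_spec hk hsq (hcon χ hl) (hm ▸ card_dvd_deg hZ hperf hc χ.2 hl) (hM χ hl)
  rw [hsum] at hnn
  omega

end Cfsg.Agent.H535.RIM
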