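import Cfsg.Agent.H535.RIM.Ov2
import Cfsg.Agent.H210.ON3.Cent
import Cfsg.Agent.H253.QON.Fix
import Cfsg.Agent.H68.Bounds
import Cfsg.Agent.S2052

/-!
# S4816, the row (O'N, 7) (helper535)

`nball_seven` : a perfect central extension `3.O'N` has, over a faithful character `c` of the centre, an irreducible
character of degree divisible by 7. Otherwise the degrees `a` over `c` divide `2⁹·3⁴·5·11·19·31`; `9 ∣ a` (the characters
vanish at the elements of order divisible by 3, helper253); with the columns `R, S, E` of 31, 19, 11 and `A` of the class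
7A (`|C| = 1372`, `49 ∣ a - A`) a quadratic form is nonnegative at all possible `(a, R, S, E, A)`, its sum is negative.
-/

set_option autoImplicit false
set_option maxRecDepth 100000
set_option linter.unusedSectionVars false

open Cfsg Subgroup
open scoped ComplexConjugate

namespace Cfsg.Agent.H535.RIM.ON

open Cfsg.Agent.Characters.Core Cfsg.Agent.H622.Over Cfsg.Agent.H382.RIM
open Cfsg.Agent.H653.Sieve Cfsg.Agent.H665.RIM
open Cfsg.Agent.KFacts.ON.Cent (finite_ON)
open Cfsg.Agent.H266.ON3 (H7 phi phi_injective)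
open Cfsg.Agent.H210.ON3 (ty rel C C_ne cj order_C conj_C card_C)
open Cfsg.Agent.H51.Mult (PCE)

universe u

/-! ### the check -/

def Q (a R S E s : ℤ) : ℤ :=
  17 * (a * a) - 1377887 * (a * R) - 4577793 * (a * S) - 12462558 * (a * E) - 730557 * (a * s)
  - 806586424025 * (R * R) - 889487282443 * (R * S) + 1046215362552 * (R * E) + 100151826936 * (R * s)
  - 195940789361 * (S * S) - 440615810831 * (S * E) + 570448859 * (S * s)
  + 1587408833067 * (E * E) + 274360916542 * (E * s) + 26123540885 * (s * s)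

def wl31 : List (ℕ × ℤ) := [(0, 0), (1, 2), (30, -2), (15, -1), (16, 1)]
def wl19 : List (ℕ × ℤ) := [(0, 0), (1, 3), (18, -3), (2, 6), (17, -6), (6, -1), (13, 1)]
def wl11 : List (ℕ × ℤ) := [(0, 0), (1, 1), (10, -1), (2, 2), (9, -2)]

theorem wl31_ok : wlOK 31 15 2 (1 * 3) wl31 = true := by decide +kernel
theorem wl19_ok : wlOK 19 6 3 (1 * 3) wl19 = true := by decide +kernel
theorem wl11_ok : wlOK 11 10 1 (1 * 3) wl11 = true := by decide +kernel

def fac : List (ℕ × ℕ) := [(2, 9), (3, 4), (5, 1), (11, 1), (19, 1), (31, 1)]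

def inner (d : ℕ) (R S E : ℤ) : Bool :=
  (List.range 75).all fun i => !(decide (((d : ℤ) - ((i : ℤ) - 37)) % 49 = 0)) || decide (0 ≤ Q d R S E ((i : ℤ) - 37))

def chk (d : ℕ) : Bool :=
  bif Nat.ble 460815505921 (d * d) then true else bif Nat.beq (d % 9) 0 then
    wl31.all fun x => !(Nat.beq (d % 31) x.1) || wl19.all fun y => !(Nat.beq (d % 19) y.1) ||
      wl11.all fun z => !(Nat.beq (d % 11) z.1) || inner d x.2 y.2 z.2
  else true

theorem chk_all : allDiv 460815505921 chk fac 1 = true := by decide +kernel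

theorem facProd_fac : facProd fac * 343 = 460815505920 := by decide +kernel

theorem inner_spec {d : ℕ} {R S E s : ℤ} (h : inner d R S E = true) (hs : s * s ≤ 1372) (h49 : (49 : ℤ) ∣ d - s) :
    0 ≤ Q d R S E s := by
  have h1 : -37 ≤ s := by nlinarith
  have h2 : s ≤ 37 := by nlinarith
  obtain ⟨i, hi⟩ : ∃ i : ℕ, (i : ℤ) = s + 37 := ⟨(s + 37).toNat, Int.toNat_of_nonneg (by omega)⟩
  have h3 : i ∈ List.range 75 := List.mem_range.2 (by omega)
  have h4 := List.all_eq_true.1 h i h3
  have h5 : ((i : ℤ) - 37) = s := by omega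
  rw [h5, Bool.or_eq_true, Bool.not_eq_true', decide_eq_false_iff_not, decide_eq_true_iff] at h4
  rcases h4 with h4 | h4
  · exact absurd (Int.emod_eq_zero_of_dvd h49) h4
  · exact h4

theorem chk_spec {d : ℕ} {R S E s : ℤ} (h : chk d = true) (hd : d * d < 460815505921) (h9 : 9 ∣ d) (hR : (d % 31, R) ∈ wl31)
    (hS : (d % 19, S) ∈ wl19) (hE : (d % 11, E) ∈ wl11) (hs : s * s ≤ 1372) (h49 : (49 : ℤ) ∣ d - s) :
    0 ≤ Q d R S E s := by
  have e9 : Nat.beq (d % 9) 0 = true := by rw [Nat.mod_eq_zero_of_dvd h9]; rfl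
  have e1 : Nat.ble 460815505921 (d * d) = false := by
    rw [Bool.eq_false_iff]
    intro h'
    exact absurd (Nat.le_of_ble_eq_true h') (by omega)
  rw [chk, e1, cond_false, e9, cond_true] at h
  have h1 := List.all_eq_true.1 h _ hR
  rw [Nat.beq_refl, Bool.not_true, Bool.false_or] at h1
  have h2 := List.all_eq_true.1 h1 _ hS
  rw [Nat.beq_refl, Bool.not_true, Bool.false_or] at h2
  have h3 := List.all_eq_true.1 h2 _ hE
  rw [Nat.beq_refl, Bool.not_true, Bool.false_or] at h3
  exact inner_spec h3 hs h49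

/-! ### the subgroup of order 49 -/

/-- the elements with second coordinate zero -/
def B0 : Subgroup H7 where
  carrier := {g | g.b = 0}
  mul_mem' := by
    intro g h hg hh
    show (g * h).b = 0
    rw [H7.mul_def]
    show g.b + h.b = 0
    rw [show g.b = 0 from hg, show h.b = 0 from hh, add_zero]
  one_mem' := rfl
  inv_mem' := by
    intro g hg
    show (g⁻¹).b = 0
    rw [H7.inv_def]
    show -g.b = 0
    rw [show g.b = 0 from hg, neg_zero]

theorem card_B0 : Nat.card B0 = 49 := by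
  have e : B0 ≃ ZMod 7 × ZMod 7 :=
    { toFun := fun g => (g.1.a, g.1.k)
      invFun := fun x => ⟨⟨x.1, 0, x.2⟩, rfl⟩
      left_inv := by
        rintro ⟨⟨a, b, k⟩, h⟩
        have h' : b = 0 := h
        subst h'
        rfl
      right_inv := fun _ => rfl }
  rw [Nat.card_congr e, Nat.card_prod, Nat.card_zmod]

/-- the subgroup of `O'N` -/
noncomputable def D : Subgroup Spor.ON := B0.map (phi rel)

theorem card_D : Nat.card D = 49 := by
  rw [D, ← Nat.card_congr (B0.equivMapOfInjective _ (phi_injective rel C_ne)).toEquiv, card_B0]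

theorem conj_D {w : Spor.ON} (hw : w ∈ D) (h1 : w ≠ 1) : IsConj w C := by
  obtain ⟨g, hg, rfl⟩ := hw
  have hg0 : g.b = 0 := hg
  refine (cj.cls g).2.1 ?_
  unfold ty
  rw [if_neg, if_neg]
  · rintro ⟨ha, h⟩
    rw [hg0] at h
    have key : ∀ a : ZMod 7, a ≠ 0 → ¬ ((0 : ZMod 7) = a ∨ 0 = 3 * a ∨ 0 = 4 * a ∨ 0 = 6 * a) := by decide
    exact key _ ha h
  · rintro rfl
    exact h1 (map_one _)

/-! ### the row -/

section

variable {G : Type u} [Group G] [Finite G] {Z : Subgroup G} [Z.Normal]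

theorem pce (hZ : Z ≤ center G) (e : (G ⧸ Z) ≃* Spor.ON) (hperf : commutator G = ⊤) :
    PCE (e.toMonoidHom.comp (QuotientGroup.mk' Z)) where
  surj := e.surjective.comp (QuotientGroup.mk'_surjective Z)
  cen := by
    intro x hx
    rw [MonoidHom.mem_ker] at hx
    have h1 : (x : G ⧸ Z) = 1 := e.injective (hx.trans (map_one e).symm)
    exact hZ ((QuotientGroup.eq_one_iff x).1 h1)
  perf := hperf

theorem ker_eq (e : (G ⧸ Z) ≃* Spor.ON) : (e.toMonoidHom.comp (QuotientGroup.mk' Z)).ker = Z := by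
  ext x
  rw [MonoidHom.mem_ker]
  constructor
  · intro hx
    exact (QuotientGroup.eq_one_iff x).1 (e.injective (hx.trans (map_one e).symm))
  · intro hx
    show e (x : G ⧸ Z) = 1
    rw [(QuotientGroup.eq_one_iff x).2 hx, map_one]

/-- the characters over `c` vanish at the elements of order divisible by three modulo the centre -/
theorem vanish (hZ : Z ≤ center G) (e : (G ⧸ Z) ≃* Spor.ON) (h3 : Nat.card Z = 3) (hperf : commutator G = ⊤)
    {c : Z →* ℂˣ} (hc : Function.Injective c) {χ : IrrCharacter G} (hχ : Lies Z c (χ : G → ℂ)) {g : G}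
    (hg : 3 ∣ orderOf (g : G ⧸ Z)) : (χ : G → ℂ) g = 0 := by
  have hnt : Nontrivial Z := Finite.one_lt_card_iff_nontrivial.1 (by rw [h3]; norm_num)
  obtain ⟨z, hz⟩ := exists_ne (1 : Z)
  refine eq_zero_of_isConj hχ (z := z) (fun h => hz (hc (h.trans (map_one c).symm))) ?_
  refine H253.QON.fixed (pce hZ e hperf) (by rw [ker_eq, h3]) ?_ z ?_
  · show 3 ∣ orderOf (e (g : G ⧸ Z))
    rw [MulEquiv.orderOf_eq]
    exact hg
  · rw [← MonoidHom.mem_ker, ker_eq]
    exact z.2

theorem card_G (e : (G ⧸ Z) ≃* Spor.ON) (h3 : Nat.card Z = 3) : Nat.card G = 3 * 460815505920 := by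
  rw [card_eq_card_quotient_mul_card_subgroup Z, Nat.card_congr e.toEquiv, H474.ONC.card_ON, h3]

/-- the degrees are divisible by nine -/
theorem nine_dvd (hZ : Z ≤ center G) (e : (G ⧸ Z) ≃* Spor.ON) (h3 : Nat.card Z = 3) (hperf : commutator G = ⊤)
    {c : Z →* ℂˣ} (hc : Function.Injective c) {χ : IrrCharacter G} (hχ : Lies Z c (χ : G → ℂ)) :
    9 ∣ charDegree (χ : G → ℂ) := by
  classical
  have h3F : Fact (Nat.Prime 3) := ⟨Nat.prime_three⟩
  have hfZ := Fintype.ofFinite Z
  obtain ⟨T⟩ : Nonempty (Sylow 3 G) := inferInstance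
  have hT : Nat.card (T : Subgroup G) = 243 := by
    have h1 := T.card_eq_multiplicity
    rw [card_G e h3, show (3 * 460815505920 : ℕ) = 3 ^ 5 * 5689080320 by norm_num,
      Nat.factorization_mul (by norm_num) (by norm_num), Nat.Prime.factorization_pow Nat.prime_three] at h1
    have h2 : (5689080320 : ℕ).factorization 3 = 0 := Nat.factorization_eq_zero_of_not_dvd (by norm_num)
    rw [Finsupp.add_apply, h2, Finsupp.single_eq_same, add_zero] at h1
    rw [h1]
    norm_num
  have hZT : Z ≤ (T : Subgroup G) := by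
    have hp : IsPGroup 3 Z := IsPGroup.of_card (n := 1) (by rw [h3, pow_one])
    obtain ⟨T', hT'⟩ := hp.exists_le_sylow
    obtain ⟨g, hg⟩ := MulAction.exists_smul_eq G T' T
    intro z hz
    rw [← hg]
    refine ⟨z, hT' hz, ?_⟩
    show g * z * g⁻¹ = z
    rw [mem_center_iff.1 (hZ hz) g, mul_inv_cancel_right]
  have hfT := Fintype.ofFinite (T : Subgroup G)
  obtain ⟨m, hm⟩ := sum_normSq (isIrr_isCharacter χ.2) (T : Subgroup G)
  have hd : (χ : G → ℂ) 1 = (charDegree (χ : G → ℂ) : ℂ) := Blocks.Knorr.charDegree_eq χ.2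
  -- the values
  have hv0 : ∀ x : (T : Subgroup G), (x : G) ∉ Z → (χ : G → ℂ) x * conj ((χ : G → ℂ) x) = 0 := by
    intro x hx
    have h1 : (χ : G → ℂ) x = 0 := by
      refine vanish hZ e h3 hperf hc hχ ?_
      obtain ⟨n, hn⟩ := (IsPGroup.iff_orderOf.1 T.isPGroup') x
      have h2 : orderOf (((x : G) : G ⧸ Z)) ∣ 3 ^ n := by
        rw [← hn, ← orderOf_coe]
        exact orderOf_map_dvd (QuotientGroup.mk' Z) (x : G)
      obtain ⟨k, -, hk⟩ := (Nat.dvd_prime_pow Nat.prime_three).1 h2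
      rw [hk]
      refine dvd_pow_self 3 ?_
      rintro rfl
      rw [pow_zero, orderOf_eq_one_iff] at hk
      exact hx ((QuotientGroup.eq_one_iff _).1 hk)
    rw [h1, zero_mul]
  have hv1 : ∀ z : Z, (χ : G → ℂ) z * conj ((χ : G → ℂ) z) = (charDegree (χ : G → ℂ) : ℂ) * charDegree (χ : G → ℂ) := by
    intro z
    have h1 := hχ 1 z
    rw [one_mul] at h1
    have h2 : (c z : ℂ) * conj (c z : ℂ) = 1 := hom_mul_conj c z
    rw [h1, map_mul, hd, Complex.conj_natCast]
    linear_combination ((charDegree (χ : G → ℂ) : ℂ) * charDegree (χ : G → ℂ)) * h2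
  have hsum : ∑ x : (T : Subgroup G), (χ : G → ℂ) x * conj ((χ : G → ℂ) x) =
      ∑ z : Z, (χ : G → ℂ) z * conj ((χ : G → ℂ) z) := by
    symm
    rw [← Finset.sum_subset (Finset.subset_univ ((Finset.univ : Finset Z).map
      ⟨fun z : Z => (⟨z, hZT z.2⟩ : (T : Subgroup G)), fun a b h => Subtype.ext (congrArg (fun t : (T : Subgroup G) => (t : G)) h)⟩))]
    · rw [Finset.sum_map]
      rfl
    · intro x _ hx
      apply hv0
      intro hxZ
      exact hx (Finset.mem_map.2 ⟨⟨x, hxZ⟩, Finset.mem_univ _, rfl⟩)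
  rw [hsum, Finset.sum_congr rfl fun z _ => hv1 z, Finset.sum_const, Finset.card_univ, ← Nat.card_eq_fintype_card, h3,
    nsmul_eq_mul, hT] at hm
  have h4 : 3 * (charDegree (χ : G → ℂ) * charDegree (χ : G → ℂ)) = m * 243 := by exact_mod_cast hm
  have h5 : 9 ^ 2 ∣ charDegree (χ : G → ℂ) ^ 2 := ⟨m, by rw [pow_two]; omega⟩
  exact (Nat.pow_dvd_pow_iff (by norm_num)).1 h5

/-- the values at the class 7A -/
theorem dvd_sub (e : (G ⧸ Z) ≃* Spor.ON) (hZ : Z ≤ center G) (h3 : Nat.card Z = 3) {u : G} (hu : orderOf u = 7)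
    (hue : e (u : G ⧸ Z) = C) (χ : IrrCharacter G) {A : ℤ} (hA : (χ : G → ℂ) u = A) :
    (49 : ℤ) ∣ (charDegree (χ : G → ℂ) : ℤ) - A := by
  classical
  have h7F : Fact (Nat.Prime 7) := ⟨by norm_num⟩
  let D' : Subgroup G := (D.comap e.toMonoidHom).comap (QuotientGroup.mk' Z)
  have hD' : Nat.card D' = 49 * 3 := by
    show Nat.card ((D.comap e.toMonoidHom).comap (QuotientGroup.mk' Z)) = _
    rw [H849.RIM.card_comap, h3]
    congr 1
    rw [← card_D]
    exact Nat.card_congr
      { toFun := fun x => ⟨e x.1, x.2⟩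
        invFun := fun x => ⟨e.symm x.1, by rw [mem_comap]; show e (e.symm x.1) ∈ D; rw [e.apply_symm_apply]; exact x.2⟩
        left_inv := fun x => Subtype.ext (e.symm_apply_apply _)
        right_inv := fun x => Subtype.ext (e.apply_symm_apply _) }
  obtain ⟨P⟩ : Nonempty (Sylow 7 D') := inferInstance
  have hP : Nat.card (P : Subgroup D') = 49 := by
    have h1 := P.card_eq_multiplicity
    rw [hD', show (49 * 3 : ℕ) = 7 ^ 2 * 3 by norm_num, Nat.factorization_mul (by norm_num) (by norm_num),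
      Nat.Prime.factorization_pow (by norm_num)] at h1
    have h2 : (3 : ℕ).factorization 7 = 0 := Nat.factorization_eq_zero_of_not_dvd (by norm_num)
    rw [Finsupp.add_apply, h2, Finsupp.single_eq_same, add_zero] at h1
    rw [h1]
    norm_num
  let H : Subgroup G := (P : Subgroup D').map D'.subtype
  have hH : Nat.card H = 49 := by
    show Nat.card ((P : Subgroup D').map D'.subtype) = 49
    rw [← Nat.card_congr ((P : Subgroup D').equivMapOfInjective _ D'.subtype_injective).toEquiv, hP]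
  have hfH := Fintype.ofFinite H
  obtain ⟨m, hm⟩ := SmallSimple.TheoremBCor.exists_sum_eq (isIrr_isCharacter χ.2) H
  have hconj : ∀ x : H, x ≠ 1 → (χ : G → ℂ) x = A := by
    intro x hx
    rw [← hA]
    refine H894.J4Two.apply_eq_of_isConj χ.2 (isConj_of_quot hZ ?_ ?_ ?_)
    · have h1 : orderOf (x : G) ∣ 49 := by
        rw [orderOf_coe, ← hH]
        exact orderOf_dvd_natCard x
      rw [h3]
      exact Nat.Coprime.coprime_dvd_left h1 (by norm_num)
    · rw [hu, h3]; norm_num
    · have hxD : e ((x : G) : G ⧸ Z) ∈ D := by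
        obtain ⟨y, -, hy⟩ := x.2
        rw [← hy]
        exact y.2
      have hx1 : e ((x : G) : G ⧸ Z) ≠ 1 := by
        intro h
        have h1 : (x : G) ∈ Z := (QuotientGroup.eq_one_iff _).1 (e.injective (h.trans (map_one e).symm))
        have h2 : orderOf (⟨(x : G), h1⟩ : Z) ∣ 3 := by rw [← h3]; exact orderOf_dvd_natCard _
        rw [← orderOf_coe, Subgroup.coe_mk] at h2
        have h4 : orderOf (x : G) ∣ 49 := by
          rw [orderOf_coe, ← hH]
          exact orderOf_dvd_natCard x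
        have h5 := Nat.eq_one_of_dvd_coprimes (by norm_num : Nat.Coprime 3 49) h2 h4
        exact hx (Subtype.ext (orderOf_eq_one_iff.1 h5))
      have h6 := conj_D hxD hx1
      rw [← hue] at h6
      have h7 := e.symm.toMonoidHom.map_isConj h6
      simpa using h7
  rw [← Finset.add_sum_erase _ _ (Finset.mem_univ (1 : H)), Finset.sum_congr rfl (g := fun _ => (A : ℂ))
    (fun x hx => hconj x (Finset.mem_erase.1 hx).1), Finset.sum_const, Finset.card_erase_of_mem (Finset.mem_univ _),
    Finset.card_univ, ← Nat.card_eq_fintype_card, hH, nsmul_eq_mul, Subgroup.coe_one, Blocks.Knorr.charDegree_eq χ.2] at hm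
  refine ⟨m - A, ?_⟩
  have h1 : (((charDegree (χ : G → ℂ) : ℤ) - A : ℤ) : ℂ) = ((49 * (m - A) : ℤ) : ℂ) := by
    push_cast at hm ⊢
    linear_combination hm
  exact_mod_cast h1

theorem exists_order {p : ℕ} (hp : p.Prime) (hd : p ∣ 460815505920) : ∃ y : Spor.ON, orderOf y = p := by
  have := finite_ON
  have : Fact p.Prime := ⟨hp⟩
  exact exists_prime_orderOf_dvd_card' p (by rw [H474.ONC.card_ON]; exact hd)

/-- the column of a self-centralizing prime -/
theorem col [Fintype (IrrCharacter G)] (e : (G ⧸ Z) ≃* Spor.ON) (hZ : Z ≤ center G) (h3 : Nat.card Z = 3) {p f t : ℕ}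
    [hpF : Fact p.Prime] (hp3 : p ≠ 3) (hd : p ∣ 460815505920) (hdd : ¬ p ^ 2 ∣ 460815505920)
    (hq : ∀ Q : Subgroup Spor.ON, Nat.card Q = p → Nat.card (centralizer (Q : Set Spor.ON)) = p ∧
      Nat.card (normalizer (Q : Set Spor.ON)) = p * f) (ht : f * t = p - 1) {wl : List (ℕ × ℤ)}
    (hwl : wlOK p f t (1 * 3) wl = true) (c : Z →* ℂˣ) :
    ∃ (P : Sylow p G) (W : IrrCharacter G → ℤ), Nat.card P = p ∧ IsCol (P : Subgroup G) f W ∧ Lin Z W ∧
      (∑ χ ∈ ov Z c, W χ * W χ = (t * p : ℕ)) ∧ (∑ χ ∈ ov Z c, (deg χ : ℤ) * W χ = 0) ∧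
      ∀ χ : IrrCharacter G, (deg χ % p, W χ) ∈ wl := by
  have hp : p.Prime := Fact.out
  obtain ⟨y, hy⟩ := exists_order hp hd
  have hS : Nat.card (G ⧸ Z) = 460815505920 := by rw [Nat.card_congr e.toEquiv, H474.ONC.card_ON]
  have hZp : ¬ p ∣ Nat.card Z := by
    rw [h3]
    exact fun h => hp3 ((Nat.prime_dvd_prime_iff_eq hp Nat.prime_three).1 h)
  obtain ⟨h1, h2⟩ := hq (zpowers y) (by rw [Nat.card_zpowers, hy])
  have hye : e (e.symm y) = y := e.apply_symm_apply y
  have hC : Nat.card (centralizer ({e.symm y} : Set (G ⧸ Z))) = p * 1 := by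
    rw [← H620.RIM.card_centralizer_congr e (e.symm y), hye, mul_one, ← h1]
    congr 2
    ext x
    rw [mem_centralizer_singleton_iff, mem_centralizer_iff]
    constructor
    · intro hx g hg
      obtain ⟨k, rfl⟩ := mem_zpowers_iff.1 hg
      exact ((show Commute x y from hx).zpow_right k).symm.eq
    · intro hx
      exact (hx y (mem_zpowers y)).symm
  have hN : Nat.card (normalizer ((zpowers (e.symm y) : Subgroup (G ⧸ Z)) : Set (G ⧸ Z))) = f * (p * 1) := by
    rw [← H620.RIM.card_normalizer_congr e (e.symm y), hye, h2, mul_one, mul_comm]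
  obtain ⟨P, W, k1, k2, k3, k4, k5, k6⟩ := exists_col (y := e.symm y) hZ hZp (by rw [hS]; exact hdd)
    (by rw [MulEquiv.orderOf_eq, hy]) hC hN ht (wl := wl) (by rw [h3]; exact hwl) c
  exact ⟨P, W, k1, k2, k3, by rw [k4, mul_one], k5, k6⟩

theorem main (hZ : Z ≤ center G) (e : (G ⧸ Z) ≃* Spor.ON) (h3 : Nat.card Z = 3) (hperf : commutator G = ⊤)
    {c : Z →* ℂˣ} (hc : Function.Injective c) :
    ∃ χ : IrrCharacter G, Lies Z c (χ : G → ℂ) ∧ 7 ∣ charDegree (χ : G → ℂ) := by
  classical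
  by_contra hcon
  push Not at hcon
  have := finite_irr (G := G)
  have := Fintype.ofFinite (IrrCharacter G)
  have hfG := Fintype.ofFinite G
  have h31F : Fact (Nat.Prime 31) := ⟨by norm_num⟩
  have h19F : Fact (Nat.Prime 19) := ⟨by norm_num⟩
  have h11F : Fact (Nat.Prime 11) := ⟨by norm_num⟩
  have h7F : Fact (Nat.Prime 7) := ⟨by norm_num⟩
  obtain ⟨PR, R, pR, cR, lR, qR, dR, vR⟩ := col e hZ h3 (p := 31) (f := 15) (t := 2) (by norm_num) (by norm_num)
    (by norm_num) H210.On7.h31 (by norm_num) wl31_ok c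
  obtain ⟨PS, S, pS, cS, lS, qS, dS, vS⟩ := col e hZ h3 (p := 19) (f := 6) (t := 3) (by norm_num) (by norm_num)
    (by norm_num) H210.On7.h19 (by norm_num) wl19_ok c
  obtain ⟨PE, E, pE, cE, lE, qE, dE, vE⟩ := col e hZ h3 (p := 11) (f := 10) (t := 1) (by norm_num) (by norm_num)
    (by norm_num) H210.On7.h11 (by norm_num) wl11_ok c
  -- the class 7A
  have hCe : e (e.symm C) = C := e.apply_symm_apply C
  obtain ⟨u, A, hu, ho, cA, lA, vA, qA, dA⟩ := exists_val (p := 7) hZ (by rw [h3]; norm_num) (y := e.symm C)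
    (by rw [MulEquiv.orderOf_eq, order_C]) (by
      intro w hw hw1
      obtain ⟨k, rfl⟩ := mem_zpowers_iff.1 hw
      have h1 : IsConj (C ^ k) C := conj_C (zpow_mem (mem_zpowers _) k) (by
        intro h
        apply hw1
        rw [← map_zpow, h, map_one])
      have h2 := e.symm.toMonoidHom.map_isConj h1
      simpa using h2) c
  rw [← H620.RIM.card_centralizer_congr e (e.symm C), hCe, card_C] at qA
  have hue : e (u : G ⧸ Z) = C := by rw [hu, hCe]
  have pA : Nat.card (zpowers u) = 7 := by rw [Nat.card_zpowers, ho]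
  -- the sums
  have qD := sum_deg_sq hZ c (N := 460815505920) (by rw [card_G e h3, h3])
  have xRS := cross hZ c (by norm_num) (by norm_num) (by norm_num) pR pS cR cS (by norm_num) (by norm_num) lR lS
  have xRE := cross hZ c (by norm_num) (by norm_num) (by norm_num) pR pE cR cE (by norm_num) (by norm_num) lR lE
  have xRA := cross hZ c (by norm_num) (by norm_num) (by norm_num) pR pA cR cA (by norm_num) (by norm_num) lR lA
  have xSE := cross hZ c (by norm_num) (by norm_num) (by norm_num) pS pE cS cE (by norm_num) (by norm_num) lS lE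
  have xSA := cross hZ c (by norm_num) (by norm_num) (by norm_num) pS pA cS cA (by norm_num) (by norm_num) lS lA
  have xEA := cross hZ c (by norm_num) (by norm_num) (by norm_num) pE pA cE cA (by norm_num) (by norm_num) lE lA
  have hsum : ∑ χ ∈ ov Z c, Q (deg χ) (R χ) (S χ) (E χ) (A χ) = -40124424530 := by
    simp only [Q, Finset.sum_add_distrib, Finset.sum_sub_distrib, ← Finset.mul_sum]
    rw [qD, dR, dS, dE, dA, qR, xRS, xRE, xRA, qS, xSE, xSA, qE, xEA, qA]
    norm_num
  have hnn : 0 ≤ ∑ χ ∈ ov Z c, Q (deg χ) (R χ) (S χ) (E χ) (A χ) := by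
    refine Finset.sum_nonneg fun χ hχ => ?_
    have hl := mem_ov.1 hχ
    have h7 := hcon χ hl
    have hdN : deg χ ∣ facProd fac * 343 := by
      have h1 := H639.charDegree_dvd_index hZ χ
      have h2 : Z.index = 460815505920 := by
        rw [Subgroup.index_eq_card, Nat.card_congr e.toEquiv, H474.ONC.card_ON]
      rw [h2, ← facProd_fac] at h1
      exact h1
    have hcop : Nat.Coprime (deg χ) 343 := by
      rw [show (343 : ℕ) = 7 ^ 3 by norm_num]
      exact Nat.Coprime.pow_right 3 ((Nat.Prime.coprime_iff_not_dvd (by norm_num)).2 h7).symm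
    have hdf : deg χ ∣ facProd fac := hcop.dvd_of_dvd_mul_right hdN
    have hsq : deg χ * deg χ < 460815505921 := by
      have h1 : (deg χ : ℤ) * (deg χ : ℤ) ≤ ∑ χ ∈ ov Z c, (deg χ : ℤ) * (deg χ : ℤ) :=
        Finset.single_le_sum (f := fun χ : IrrCharacter G => (deg χ : ℤ) * (deg χ : ℤ)) (fun _ _ => mul_self_nonneg _) hχ
      rw [qD] at h1
      have h2 : deg χ * deg χ ≤ 460815505920 := by exact_mod_cast h1
      omega
    have hA2 : A χ * A χ ≤ 1372 := by
      have h1 : A χ * A χ ≤ ∑ χ ∈ ov Z c, A χ * A χ :=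
        Finset.single_le_sum (f := fun χ : IrrCharacter G => A χ * A χ) (fun _ _ => mul_self_nonneg _) hχ
      rw [qA] at h1
      exact_mod_cast h1
    have hk := allDiv_spec (L := fac) (by decide) chk_all (deg χ) hdf (by rwa [one_mul])
    rw [one_mul] at hk
    exact chk_spec hk hsq (nine_dvd hZ e h3 hperf hc hl) (vR χ) (vS χ) (vE χ) hA2 (dvd_sub e hZ h3 ho hue χ (vA χ))
  rw [hsum] at hnn
  norm_num at hnn

end

/-- **S4816, (O'N, 7)** -/
theorem nball_seven {S : Type u} [Group S] (h : Spor.IsoON S) : NBall 7 S := by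
  obtain ⟨f⟩ := h
  intro m hm h7
  refine H620.RIM.nb_of_quot fun G _ _ Z _ hZ e hcard hperf c hc => ?_
  have hp := pce hZ (e.trans f) hperf
  have hd : Nat.card Z ∣ 3 := by
    have h1 := (H68.Bounds.ker_of_hasCyclic S2052.result hp).2
    rwa [ker_eq] at h1
  rcases (Nat.dvd_prime Nat.prime_three).1 hd with h1 | h1
  · omega
  · exact main hZ (e.trans f) h1 hperf hc

end Cfsg.Agent.H535.RIM.ON
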