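import Cfsg.Agent.H535.RIM.Cert
import Cfsg.Agent.H483.RIM.M22

/-!
# S4816: the row (M22, 3) (helper535)

Covers of order 2 and 4: the columns of 5, 7, 11 and a quadratic certificate (19 and 15 types).
-/

set_option autoImplicit false
set_option linter.unusedSectionVars false

open Cfsg Subgroup
open scoped ComplexConjugate

namespace Cfsg.Agent.H535.RIM.M22

open Cfsg.Agent.Characters.Core Cfsg.Agent.H622.Over Cfsg.Agent.H382.RIM
open Cfsg.Agent.H653.Sieve Cfsg.Agent.H665.RIM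
open Cfsg.Agent.H715.Fpr.MathData Cfsg.Agent.H483.RIM Cfsg.Agent.H620.RIM

universe u

def fac : List (ℕ × ℕ) := [(2, 7), (3, 2), (5, 1), (7, 1), (11, 1)]

def w11 : List (ℕ × ℤ) := [(0, 0), (1, 2), (5, -1), (6, 1), (10, -2)]
def w7 : List (ℕ × ℤ) := [(0, 0), (1, 2), (3, -1), (3, 6), (4, -6), (4, 1), (6, -2)]
def w5 : List (ℕ × ℤ) := [(0, 0), (1, 1), (2, 2), (3, -2), (4, -1)]

def mk (l : List (ℕ × ℤ)) : List (ℕ × ℤ × ℤ) := l.map fun x => (x.1, x.2, 0)

theorem mem_mk {l : List (ℕ × ℤ)} {r : ℕ} {w : ℤ} (h : (r, w) ∈ l) : (r, w, (0 : ℤ)) ∈ mk l :=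
  List.mem_map.2 ⟨_, h, rfl⟩

def cs : List (ℕ × List (ℕ × ℤ × ℤ)) := [(11, mk w11), (7, mk w7), (5, mk w5)]

def A2 : List (List ℤ) := [[0, -658, -538, 316], [-34264, 48960, 65213], [20661, 85811], [64792]]
def A4 : List (List ℤ) := [[0, -62, -25, 62], [-6928, -10714, 9435], [1086, -7603], [12773]]

theorem fac_ok : facProd fac = 443520 := by decide +kernel
theorem chk2 : allDiv 443521 (chkD 443520 2 3 A2 [] cs) fac 1 = true := by decide +kernel
theorem chk4 : allDiv 443521 (chkD 443520 4 3 A4 [] cs) fac 1 = true := by decide +kernel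

theorem ok11_2 : wlOK 11 5 2 (1 * 2) w11 = true := by decide +kernel
theorem ok7_2 : wlOK 7 3 2 (1 * 2) w7 = true := by decide +kernel
theorem ok5_2 : wlOK 5 4 1 (1 * 2) w5 = true := by decide +kernel
theorem ok11_4 : wlOK 11 5 2 (1 * 4) w11 = true := by decide +kernel
theorem ok7_4 : wlOK 7 3 2 (1 * 4) w7 = true := by decide +kernel
theorem ok5_4 : wlOK 5 4 1 (1 * 4) w5 = true := by decide +kernel

variable {G : Type u} [Group G] [Finite G] {Z : Subgroup G} [Z.Normal]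

theorem main (hZ : Z ≤ center G) (e : (G ⧸ Z) ≃* Spor.M22) {m : ℕ} (hm : Nat.card Z = m) (hm4 : m ∣ 4)
    (hperf : commutator G = ⊤) {c : Z →* ℂˣ} (hc : Function.Injective c)
    (o11 : wlOK 11 5 2 (1 * m) w11 = true) (o7 : wlOK 7 3 2 (1 * m) w7 = true) (o5 : wlOK 5 4 1 (1 * m) w5 = true)
    {A : List (List ℤ)} (hA : allDiv 443521 (chkD 443520 m 3 A [] cs) fac 1 = true)
    (htot : totL A [443520, 22, 14, 5] < 0) :
    ∃ χ : IrrCharacter G, Lies Z c (χ : G → ℂ) ∧ 3 ∣ charDegree (χ : G → ℂ) := by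
  classical
  have := finite_irr (G := G)
  have := Fintype.ofFinite (IrrCharacter G)
  have hfG := Fintype.ofFinite G
  have h11F : Fact (Nat.Prime 11) := ⟨by norm_num⟩
  have h7F : Fact (Nat.Prime 7) := ⟨by norm_num⟩
  have h5F : Fact (Nat.Prime 5) := ⟨by norm_num⟩
  have hN : Nat.card (G ⧸ Z) = 443520 := by rw [Nat.card_congr e.toEquiv, card22]; rfl
  have hcG : Nat.card G = Nat.card Z * 443520 := by rw [card_eq_card_quotient_mul_card_subgroup Z, hN, mul_comm]
  have hnd : ∀ p : ℕ, p.Prime → p ≠ 2 → ¬ p ∣ Nat.card Z := by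
    intro p hp hp2 h
    rw [hm] at h
    have h1 : p ∣ 2 ^ 2 := h.trans hm4
    exact hp2 ((Nat.prime_dvd_prime_iff_eq hp Nat.prime_two).1 (hp.dvd_of_dvd_pow h1))
  obtain ⟨y11, hy11⟩ := exists_prime_orderOf_dvd_card' (G := G ⧸ Z) 11 (by rw [hN]; norm_num)
  obtain ⟨y7, hy7⟩ := exists_prime_orderOf_dvd_card' (G := G ⧸ Z) 7 (by rw [hN]; norm_num)
  obtain ⟨y5, hy5⟩ := exists_prime_orderOf_dvd_card' (G := G ⧸ Z) 5 (by rw [hN]; norm_num)
  obtain ⟨c11, n11⟩ := cn_of e (fun R hR => cn22_11 hR) hy11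
  obtain ⟨c7, n7⟩ := cn_of e (fun R hR => cn22_7 hR) hy7
  obtain ⟨c5, n5⟩ := cn_of e (fun R hR => cn22_5 hR) hy5
  obtain ⟨PR, R, pR, cR, lR, qR, dR, vR⟩ := exists_col hZ (hnd 11 (by norm_num) (by norm_num)) (by rw [hN]; norm_num)
    hy11 (k := 1) (e := 5) (t := 2) (by rw [c11]) (by rw [n11]) (by norm_num) (by rw [hm]; exact o11) c
  obtain ⟨PS, S, pS, cS, lS, qS, dS, vS⟩ := exists_col hZ (hnd 7 (by norm_num) (by norm_num)) (by rw [hN]; norm_num)
    hy7 (k := 1) (e := 3) (t := 2) (by rw [c7]) (by rw [n7]) (by norm_num) (by rw [hm]; exact o7) c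
  obtain ⟨PT, T, pT, cT, lT, qT, dT, vT⟩ := exists_col hZ (hnd 5 (by norm_num) (by norm_num)) (by rw [hN]; norm_num)
    hy5 (k := 1) (e := 4) (t := 1) (by rw [c5]) (by rw [n5]) (by norm_num) (by rw [hm]; exact o5) c
  have qD := sum_deg_sq hZ c (N := 443520) hcG
  have xRS := cross hZ c (by norm_num) (by norm_num) (by norm_num) pR pS cR cS (by norm_num) (by norm_num) lR lS
  have xRT := cross hZ c (by norm_num) (by norm_num) (by norm_num) pR pT cR cT (by norm_num) (by norm_num) lR lT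
  have xST := cross hZ c (by norm_num) (by norm_num) (by norm_num) pS pT cS cT (by norm_num) (by norm_num) lS lT
  have z0 : ∑ χ ∈ ov Z c, (0 : ℤ) = 0 := Finset.sum_const_zero
  refine cert hZ hperf hc hm hN (A := A) (h := []) (cs := cs) (fac := fac) fac_ok (by decide) hA
    (Ws := [R, S, T]) (Is := [fun _ => 0, fun _ => 0, fun _ => 0]) (qs := [22, 14, 5]) (ss := [0, 0, 0])
    ⟨qD, ?_, qR, ?_, qS, ?_, qT, ?_, trivial⟩ ⟨z0, z0, z0, trivial⟩ ?_ ?_
  · intro Y hY
    simp only [List.mem_cons, List.not_mem_nil, or_false] at hY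
    rcases hY with rfl | rfl | rfl
    · exact dR
    · exact dS
    · exact dT
  · intro Y hY
    simp only [List.mem_cons, List.not_mem_nil, or_false] at hY
    rcases hY with rfl | rfl
    · exact xRS
    · exact xRT
  · intro Y hY
    simp only [List.mem_cons, List.not_mem_nil, or_false] at hY
    rw [hY]
    exact xST
  · intro Y hY
    exact absurd hY List.not_mem_nil
  · intro χ _
    exact ⟨mem_mk (vR χ), mem_mk (vS χ), mem_mk (vT χ), trivial⟩
  · simpa [dotL] using htot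

/-- **(M22, 3)** -/
theorem nball_three {K : Type u} [Group K] [Finite K] (h : Spor.IsoM22 K) : NBall.{u} 3 K := by
  refine nball_of_mdvd (dvd_m22 h) fun m hm hm2 h3 => ?_
  obtain ⟨f⟩ := h
  have h4 : m ∣ 4 := by
    have h5 : m.Coprime 3 := (Nat.Prime.coprime_iff_not_dvd Nat.prime_three).2 h3 |>.symm
    exact h5.dvd_of_dvd_mul_right (by simpa using hm)
  refine nb_of_quot fun G _ _ Z _ hZ e hcard hperf c hc => ?_
  have h6 : m = 2 ∨ m = 4 := by
    have : m ≤ 4 := Nat.le_of_dvd (by norm_num) h4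
    interval_cases m <;> omega
  rcases h6 with rfl | rfl
  · exact main hZ (e.trans f) hcard h4 hperf hc ok11_2 ok7_2 ok5_2 chk2 (by decide)
  · exact main hZ (e.trans f) hcard h4 hperf hc ok11_4 ok7_4 ok5_4 chk4 (by decide)

end Cfsg.Agent.H535.RIM.M22
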