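import Cfsg.Agent.H382.RIM.Tool
import Cfsg.Agent.H849.RIM.DzCount
import Cfsg.Agent.H653.Sieve.Cols
import Cfsg.Agent.H894.J4TwoMain
import Cfsg.Agent.H620.RIM.Nb

/-!
# Columns over a linear character of a central subgroup (helper535, S4816)

`Z` central, `c : Z →* ℂˣ`, `ov Z c` the irreducible characters over `c` (helper382).
* `Lin Z W` : the integer valued `W` on `Irr G` is a combination of values at elements of order prime to `|Z|`;
* `Lin.sum_mul` : `|Z| * ∑_{χ over c} W χ * W' χ = ∑_χ W χ * W' χ`;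
* `lin_deg`, `lin_val`, `lin_col` : the degrees, the values at an element, the columns of `H653.Sieve`;
* `exists_col` : the column of a prime `p` dividing `|G / Z|` once.
-/

set_option autoImplicit false
set_option linter.unusedSectionVars false

open Cfsg Subgroup
open scoped ComplexConjugate

namespace Cfsg.Agent.H535.RIM

open Cfsg.Agent.Characters.Core Cfsg.Agent.H622.Over Cfsg.Agent.H382.RIM
open Cfsg.Agent.H653.Sieve
open Cfsg.Agent.SmallSimple.ThetaSetup Cfsg.Agent.SmallSimple.ThetaOrtho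
open Cfsg.Agent.SmallSimple.TheoremC Cfsg.Agent.SmallSimple.TheoremCCor
open Cfsg.Agent.SmallSimple.PrimeDual Cfsg.Agent.SmallSimple.ThetaCount

universe u

variable {G : Type u} [Group G] [Finite G]

/-- combination of values at elements of order prime to `|Z|` -/
def Lin (Z : Subgroup G) (W : IrrCharacter G → ℤ) : Prop :=
  ∃ (S : Finset G) (f : G → ℂ), (∀ g ∈ S, (orderOf g).Coprime (Nat.card Z)) ∧
    ∀ χ : IrrCharacter G, (W χ : ℂ) = ∑ g ∈ S, f g * (χ : G → ℂ) g

theorem lin_val {Z : Subgroup G} {g : G} (hg : (orderOf g).Coprime (Nat.card Z)) {A : IrrCharacter G → ℤ}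
    (hA : ∀ χ : IrrCharacter G, (χ : G → ℂ) g = A χ) : Lin Z A := by
  refine ⟨{g}, fun _ => 1, fun h hh => ?_, fun χ => ?_⟩
  · rw [Finset.mem_singleton.1 hh]
    exact hg
  · rw [Finset.sum_singleton, one_mul, hA]

section

variable [Fintype (IrrCharacter G)]

theorem lin_deg (Z : Subgroup G) : Lin Z fun χ : IrrCharacter G => (deg χ : ℤ) := by
  refine ⟨{1}, fun _ => 1, fun g hg => ?_, fun χ => ?_⟩
  · rw [Finset.mem_singleton.1 hg, orderOf_one]
    exact Nat.coprime_one_left _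
  · rw [Finset.sum_singleton, one_mul, deg_cast]
    push_cast
    rfl

theorem lin_col {p : ℕ} [hp : Fact p.Prime] {Z : Subgroup G} (hZp : ¬ p ∣ Nat.card Z) {P : Sylow p G}
    (hP : Nat.card P = p) {e : ℕ} (he : e ≠ 0) {W : IrrCharacter G → ℤ} (hW : IsCol (P : Subgroup G) e W) :
    Lin Z W := by
  obtain ⟨S, f, h1, h2⟩ := H653.Sys.supp_of_isCol hP he hW
  refine ⟨S, f, fun g hg => ?_, h1⟩
  rw [List.mem_singleton.1 (h2 g hg)]
  exact (Nat.Prime.coprime_iff_not_dvd hp.out).2 hZp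

/-- the column orthogonality over `c` for elements of order prime to `|Z|` -/
theorem pair {Z : Subgroup G} (hZ : Z ≤ center G) (c : Z →* ℂˣ) {g h : G} (hg : (orderOf g).Coprime (Nat.card Z))
    (hh : (orderOf h).Coprime (Nat.card Z)) :
    (Nat.card Z : ℂ) * ∑ χ ∈ ov Z c, (χ : G → ℂ) g * conj ((χ : G → ℂ) h) =
      ∑ χ : IrrCharacter G, (χ : G → ℂ) g * conj ((χ : G → ℂ) h) := by
  classical
  have := Fintype.ofFinite Z
  have hN0 : (Nat.card Z : ℂ) ≠ 0 := by exact_mod_cast Nat.card_pos.ne'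
  rw [sum_over hZ c g h, ← mul_assoc, mul_inv_cancel₀ hN0, one_mul, H686.CharKit.col_orth,
    Finset.sum_eq_single (1 : Z)]
  · rw [Subgroup.coe_one, mul_one, map_one, Units.val_one, map_one, one_mul]
  · intro n _ hn
    rw [if_neg, mul_zero]
    intro hc
    apply hn
    have hcn : Commute g (n : G) := mem_center_iff.1 (hZ n.2) g
    have h1 : (g * n) ^ (orderOf g * orderOf h) = 1 := by
      obtain ⟨x, hx⟩ := isConj_iff.1 hc
      have h2 : (x * (g * n) * x⁻¹) ^ (orderOf g * orderOf h) = 1 := by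
        rw [hx, mul_comm, pow_mul, pow_orderOf_eq_one, one_pow]
      rw [conj_pow] at h2
      exact conj_eq_one_iff.1 h2
    rw [hcn.mul_pow, pow_mul g, pow_orderOf_eq_one, one_pow, one_mul] at h1
    have h2 : n ^ (orderOf g * orderOf h) = 1 := Subtype.ext (by rw [Subgroup.coe_pow, h1, Subgroup.coe_one])
    have h3 := orderOf_dvd_of_pow_eq_one h2
    have h4 : orderOf n ∣ Nat.card Z := orderOf_dvd_natCard n
    exact orderOf_eq_one_iff.1 (Nat.eq_one_of_dvd_coprimes (Nat.Coprime.mul_left hg hh) h3 h4)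
  · intro hn
    exact absurd (Finset.mem_univ _) hn

/-- **the sums over `c`** -/
theorem Lin.sum_mul {Z : Subgroup G} (hZ : Z ≤ center G) (c : Z →* ℂˣ) {W W' : IrrCharacter G → ℤ}
    (hW : Lin Z W) (hW' : Lin Z W') :
    (Nat.card Z : ℤ) * ∑ χ ∈ ov Z c, W χ * W' χ = ∑ χ, W χ * W' χ := by
  classical
  obtain ⟨S, f, hS, hf⟩ := hW
  obtain ⟨S', f', hS', hf'⟩ := hW'
  have h1 : ∀ χ : IrrCharacter G, ((W χ * W' χ : ℤ) : ℂ) =
      ∑ g ∈ S, ∑ h ∈ S', f g * conj (f' h) * ((χ : G → ℂ) g * conj ((χ : G → ℂ) h)) := by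
    intro χ
    have h2 : ((W' χ : ℤ) : ℂ) = ∑ h ∈ S', conj (f' h) * conj ((χ : G → ℂ) h) := by
      have h3 := congrArg conj (hf' χ)
      rw [map_sum] at h3
      simp only [map_mul, map_intCast] at h3
      exact h3
    push_cast
    rw [hf χ, h2, Finset.sum_mul_sum]
    exact Finset.sum_congr rfl fun g _ => Finset.sum_congr rfl fun h _ => by ring
  have key : ∀ T : Finset (IrrCharacter G), ((∑ χ ∈ T, W χ * W' χ : ℤ) : ℂ) =
      ∑ g ∈ S, ∑ h ∈ S', f g * conj (f' h) * ∑ χ ∈ T, (χ : G → ℂ) g * conj ((χ : G → ℂ) h) := by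
    intro T
    rw [Int.cast_sum, Finset.sum_congr rfl fun χ _ => h1 χ, Finset.sum_comm]
    refine Finset.sum_congr rfl fun g _ => ?_
    rw [Finset.sum_comm]
    exact Finset.sum_congr rfl fun h _ => (Finset.mul_sum _ _ _).symm
  have h2 : (((Nat.card Z : ℤ) * ∑ χ ∈ ov Z c, W χ * W' χ : ℤ) : ℂ) = ((∑ χ, W χ * W' χ : ℤ) : ℂ) := by
    rw [Int.cast_mul, key, key, Finset.mul_sum]
    refine Finset.sum_congr rfl fun g hg => ?_
    rw [Finset.mul_sum]
    refine Finset.sum_congr rfl fun h hh => ?_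
    rw [← pair hZ c (hS g hg) (hS' h hh)]
    push_cast
    ring
  exact_mod_cast h2

theorem sum_eq {Z : Subgroup G} (hZ : Z ≤ center G) (c : Z →* ℂˣ) {W W' : IrrCharacter G → ℤ}
    (hW : Lin Z W) (hW' : Lin Z W') {s : ℤ} (h : ∑ χ, W χ * W' χ = Nat.card Z * s) :
    ∑ χ ∈ ov Z c, W χ * W' χ = s := by
  have h1 := hW.sum_mul hZ c hW'
  rw [h] at h1
  exact mul_left_cancel₀ (by exact_mod_cast Nat.card_pos.ne') h1

/-- the Sylow subgroup of a prime dividing `|G / Z|` once (helper849) -/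
theorem sylow_quot {p : ℕ} [hpF : Fact p.Prime] {Z : Subgroup G} [Z.Normal] (hZ : Z ≤ center G)
    (hZp : ¬ p ∣ Nat.card Z) (hsq : ¬ p ^ 2 ∣ Nat.card (G ⧸ Z)) {y : G ⧸ Z} (hy : orderOf y = p) {k w : ℕ}
    (hC : Nat.card (centralizer ({y} : Set (G ⧸ Z))) = p * k)
    (hN : Nat.card (normalizer ((zpowers y : Subgroup (G ⧸ Z)) : Set (G ⧸ Z))) = w * (p * k)) :
    ∃ (P : Sylow p G) (K : Subgroup G), Nat.card P = p ∧ IsComp p (P : Subgroup G) K ∧ Nat.card K = k * Nat.card Z ∧
      (centralizer ((P : Subgroup G) : Set G)).relIndex (normalizer ((P : Subgroup G) : Set G)) = w ∧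
      Nat.card (normalizer ((P : Subgroup G) : Set G)) = w * (p * k) * Nat.card Z := by
  classical
  have hp : p.Prime := Fact.out
  have hfin : Finite (IrrCharacter G) := finite_irr
  obtain ⟨u, rfl, hu⟩ := H849.RIM.exists_lift hZp hy
  -- the Sylow subgroup
  have hcG := card_eq_card_quotient_mul_card_subgroup Z
  have hG2 : ¬ p ^ 2 ∣ Nat.card G := by
    rw [hcG]
    intro h
    have hco : (p ^ 2).Coprime (Nat.card Z) := Nat.Coprime.pow_left 2 ((hp.coprime_iff_not_dvd).2 hZp)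
    exact hsq (hco.dvd_of_dvd_mul_right h)
  have hzp : IsPGroup p (zpowers u) := IsPGroup.of_card (n := 1) (by rw [Nat.card_zpowers, hu, pow_one])
  obtain ⟨P, hPle⟩ := hzp.exists_le_sylow
  have hP : Nat.card P = p := by
    obtain ⟨n, hn⟩ := (IsPGroup.iff_card).1 P.2
    have h1 : Nat.card P ∣ Nat.card G := card_subgroup_dvd_card _
    have h2 : n < 2 := by
      by_contra h3
      push Not at h3
      exact hG2 ((pow_dvd_pow p h3).trans (hn ▸ h1))
    have h3 : p ∣ Nat.card P := by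
      have := card_dvd_of_le hPle
      rwa [Nat.card_zpowers, hu] at this
    interval_cases n
    · rw [hn, pow_zero, Nat.dvd_one] at h3
      exact absurd h3 hp.one_lt.ne'
    · rw [hn, pow_one]
  have hPz : (P : Subgroup G) = zpowers u := by
    symm
    refine eq_of_le_of_card_ge hPle ?_
    rw [Nat.card_zpowers, hu]
    exact hP.le
  obtain ⟨K, hK⟩ := exists_isComp P hP
  have huP : u ∈ (P : Subgroup G) := hPle (mem_zpowers u)
  have hu1 : u ≠ 1 := by
    rintro rfl
    rw [orderOf_one] at hu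
    exact hp.one_lt.ne hu
  have hCP : centralizer ((P : Subgroup G) : Set G) = centralizer ({u} : Set G) :=
    (Blocks.CyclicOrtho.centralizer_eq P hP huP hu1).symm
  -- the centralizer
  have hcent : centralizer ((P : Subgroup G) : Set G) =
      (centralizer ({(u : G ⧸ Z)} : Set (G ⧸ Z))).comap (QuotientGroup.mk' Z) := by
    rw [hCP]
    ext x
    rw [mem_centralizer_singleton_iff, mem_comap, mem_centralizer_singleton_iff]
    constructor
    · intro h
      have := congrArg (QuotientGroup.mk' Z) h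
      simpa using this
    · intro h
      have h1 : (x : G ⧸ Z) * u * (x : G ⧸ Z)⁻¹ = (u : G ⧸ Z) ^ 1 := by
        have h2 : (x : G ⧸ Z) * u = u * x := h
        rw [h2, mul_inv_cancel_right, pow_one]
      have h2 := H849.RIM.comm_of_comm hZ hZp hu h1
      rw [pow_one, mul_inv_eq_iff_eq_mul] at h2
      exact h2
  have hnorm : normalizer ((P : Subgroup G) : Set G) =
      (normalizer ((zpowers (u : G ⧸ Z) : Subgroup (G ⧸ Z)) : Set (G ⧸ Z))).comap (QuotientGroup.mk' Z) := by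
    have hPm : (P : Subgroup G).map (QuotientGroup.mk' Z) = zpowers (u : G ⧸ Z) := by
      rw [hPz, MonoidHom.map_zpowers]
      rfl
    apply le_antisymm
    · intro x hx
      rw [mem_comap, ← hPm]
      exact Subgroup.le_normalizer_map _ (mem_map_of_mem _ hx)
    · intro x hx
      rw [mem_comap] at hx
      have h1 : (x : G ⧸ Z) * u * (x : G ⧸ Z)⁻¹ ∈ zpowers (u : G ⧸ Z) :=
        (mem_normalizer_iff.1 hx (u : G ⧸ Z)).1 (mem_zpowers _)
      obtain ⟨j, hj⟩ := mem_powers_iff_mem_zpowers.2 h1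
      have h2 := H849.RIM.comm_of_comm hZ hZp hu (x := x) (j := j) hj.symm
      refine mem_normalizer_fintype fun n hn => ?_
      have hn' : n ∈ zpowers u := by rw [← hPz]; exact hn
      obtain ⟨i, rfl⟩ := mem_powers_iff_mem_zpowers.2 hn'
      show x * u ^ i * x⁻¹ ∈ (P : Subgroup G)
      rw [← conj_pow, h2, hPz]
      exact pow_mem (pow_mem (mem_zpowers u) j) i
  have hcC : Nat.card (centralizer ((P : Subgroup G) : Set G)) = p * k * Nat.card Z := by
    rw [hcent, H849.RIM.card_comap, hC]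
  have hcN : Nat.card (normalizer ((P : Subgroup G) : Set G)) = w * (p * k) * Nat.card Z := by
    rw [hnorm, H849.RIM.card_comap, hN]
  have hcK : Nat.card K = k * Nat.card Z := by
    have h1 : Nat.card P * Nat.card K = Nat.card (centralizer ((P : Subgroup G) : Set G)) := by
      rw [← Nat.card_prod]
      exact Nat.card_congr (prodEquiv hK hP).toEquiv
    rw [hP, hcC, mul_assoc] at h1
    exact Nat.eq_of_mul_eq_mul_left hp.pos h1
  have hk0 : 0 < k := by
    rcases Nat.eq_zero_or_pos k with h | h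
    · rw [h, zero_mul] at hcK
      exact absurd hcK Nat.card_pos.ne'
    · exact h
  refine ⟨P, K, hP, hK, hcK, ?_, hcN⟩
  have h1 : centralizer ((P : Subgroup G) : Set G) ≤ normalizer ((P : Subgroup G) : Set G) :=
    centralizer_le_normalizer _
  have h2 := Subgroup.card_mul_index ((centralizer ((P : Subgroup G) : Set G)).subgroupOf
    (normalizer ((P : Subgroup G) : Set G)))
  rw [Nat.card_congr (subgroupOfEquivOfLe h1).toEquiv, hcC, hcN] at h2
  have h3 : 0 < p * k * Nat.card Z := Nat.mul_pos (Nat.mul_pos hp.pos hk0) Nat.card_pos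
  rw [Subgroup.relIndex]
  apply Nat.eq_of_mul_eq_mul_left h3
  rw [h2]
  ring

/-- **the column of a prime dividing `|G / Z|` once** -/
theorem exists_col {p : ℕ} [hpF : Fact p.Prime] {Z : Subgroup G} [Z.Normal] (hZ : Z ≤ center G)
    (hZp : ¬ p ∣ Nat.card Z) (hsq : ¬ p ^ 2 ∣ Nat.card (G ⧸ Z)) {y : G ⧸ Z} (hy : orderOf y = p) {k e t : ℕ}
    (hC : Nat.card (centralizer ({y} : Set (G ⧸ Z))) = p * k)
    (hN : Nat.card (normalizer ((zpowers y : Subgroup (G ⧸ Z)) : Set (G ⧸ Z))) = e * (p * k)) (ht : e * t = p - 1)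
    {wl : List (ℕ × ℤ)} (hwl : wlOK p e t (k * Nat.card Z) wl = true) (c : Z →* ℂˣ) :
    ∃ (P : Sylow p G) (W : IrrCharacter G → ℤ), Nat.card P = p ∧ IsCol (P : Subgroup G) e W ∧ Lin Z W ∧
      (∑ χ ∈ ov Z c, W χ * W χ = (t * p * k : ℕ)) ∧ (∑ χ ∈ ov Z c, (deg χ : ℤ) * W χ = 0) ∧
      ∀ χ : IrrCharacter G, (deg χ % p, W χ) ∈ wl := by
  obtain ⟨P, K, hP, hK, hcK, hw, hcN⟩ := sylow_quot hZ hZp hsq hy hC hN
  have he0 : e ≠ 0 := by
    rintro rfl
    have := hpF.out.two_le
    omega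
  choose W hW hWv using exists_value hK hP hw ht
  have hcol : IsCol (P : Subgroup G) e W := hW
  have hlin : Lin Z W := lin_col hZp hP he0 hcol
  refine ⟨P, W, hP, hcol, hlin, ?_, ?_, fun χ => ?_⟩
  · refine sum_eq hZ c hlin hlin ?_
    rw [hcol.sq hP (k := k * Nat.card Z) (by rw [hcN]; ring) ht]
    push_cast
    ring
  · refine sum_eq hZ c (lin_deg Z) hlin ?_
    rw [mul_zero, ← hcol.deg he0]
    exact Finset.sum_congr rfl fun χ _ => mul_comm _ _
  · have hd := hcol.dvd χ
    rw [show Nat.card ↥(P : Subgroup G) = p from hP] at hd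
    have hv := hWv χ
    rw [hcK] at hv
    exact mem_wl hwl ht hd hv

/-- the sum of the squares of the degrees -/
theorem sum_deg_sq {Z : Subgroup G} (hZ : Z ≤ center G) (c : Z →* ℂˣ) {N : ℕ} (hN : Nat.card G = Nat.card Z * N) :
    ∑ χ ∈ ov Z c, (deg χ : ℤ) * (deg χ : ℤ) = N := by
  refine sum_eq hZ c (lin_deg Z) (lin_deg Z) ?_
  have h1 := SmallSimple.DegreeData.sum_sq (G := G)
  rw [hN] at h1
  have h2 : ((∑ χ : IrrCharacter G, (charDegree (χ : G → ℂ)) ^ 2 : ℕ) : ℤ) = Nat.card Z * N := by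
    rw [h1]; push_cast; ring
  rw [← h2]
  push_cast
  refine Finset.sum_congr rfl fun χ _ => ?_
  simp only [deg]
  ring

end

end Cfsg.Agent.H535.RIM
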