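import Cfsg.Agent.H535.RIM.Ov
import Cfsg.Agent.H639.Cen

/-!
# Columns over a linear character of a central subgroup, II (helper535, S4816)

* `isConj_of_quot` : elements of order prime to `|Z|` are conjugate if they are so modulo `Z`;
* `card_cent_quot` : `|C_G(u)| = |C_{G/Z}(u Z)| * |Z|`, `u` of prime order;
* `exists_val` : the column of a rational element of prime order;
* `eq_zero_of_isConj` : characters over `c` vanish at the elements `g` conjugate to `g z`, `c z ≠ 1`;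
* `sum_normSq` : `∑_{x ∈ H} |χ x| ^ 2` is divisible by `|H|`;
* `cross`, `cross_val` : the columns are orthogonal over `c`.
-/

set_option autoImplicit false
set_option linter.unusedSectionVars false

open Cfsg Subgroup
open scoped ComplexConjugate

namespace Cfsg.Agent.H535.RIM

open Cfsg.Agent.Characters.Core Cfsg.Agent.H622.Over Cfsg.Agent.H382.RIM
open Cfsg.Agent.H653.Sieve

universe u

variable {G : Type u} [Group G] [Finite G]

theorem isConj_of_quot {Z : Subgroup G} [Z.Normal] (hZ : Z ≤ center G) {g h : G}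
    (hg : (orderOf g).Coprime (Nat.card Z)) (hh : (orderOf h).Coprime (Nat.card Z))
    (hc : IsConj (g : G ⧸ Z) (h : G ⧸ Z)) : IsConj g h := by
  obtain ⟨x, hx⟩ := isConj_iff.1 hc
  obtain ⟨x, rfl⟩ := QuotientGroup.mk_surjective x
  have h1 : h⁻¹ * (x * g * x⁻¹) ∈ Z := by
    rw [← QuotientGroup.eq_one_iff, QuotientGroup.mk_mul, QuotientGroup.mk_inv, QuotientGroup.mk_mul,
      QuotientGroup.mk_mul, QuotientGroup.mk_inv, hx, inv_mul_cancel]
  obtain ⟨z, hz⟩ : ∃ z : G, z = h⁻¹ * (x * g * x⁻¹) := ⟨_, rfl⟩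
  rw [← hz] at h1
  have h2 : x * g * x⁻¹ = h * z := by rw [hz]; group
  have hcm : Commute h z := mem_center_iff.1 (hZ h1) h
  have h3 : (h * z) ^ (orderOf h * orderOf g) = 1 := by
    rw [← h2, conj_pow, mul_comm, pow_mul, pow_orderOf_eq_one, one_pow, mul_one, mul_inv_cancel]
  rw [hcm.mul_pow, pow_mul h, pow_orderOf_eq_one, one_pow, one_mul] at h3
  have h4 : (⟨z, h1⟩ : Z) ^ (orderOf h * orderOf g) = 1 := Subtype.ext h3
  have h5 : (⟨z, h1⟩ : Z) = 1 :=
    orderOf_eq_one_iff.1 (Nat.eq_one_of_dvd_coprimes (Nat.Coprime.mul_left hh hg) (orderOf_dvd_of_pow_eq_one h4)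
      (orderOf_dvd_natCard _))
  have h6 : z = 1 := congrArg Subtype.val h5
  rw [h6, mul_one] at h2
  exact isConj_iff.2 ⟨x, h2⟩

theorem card_cent_quot {p : ℕ} [hpF : Fact p.Prime] {Z : Subgroup G} [Z.Normal] (hZ : Z ≤ center G)
    (hZp : ¬ p ∣ Nat.card Z) {u : G} (hu : orderOf u = p) :
    Nat.card (centralizer ({u} : Set G)) = Nat.card (centralizer ({(u : G ⧸ Z)} : Set (G ⧸ Z))) * Nat.card Z := by
  rw [← H849.RIM.card_comap]
  congr 2
  ext x
  rw [mem_centralizer_singleton_iff, mem_comap, mem_centralizer_singleton_iff]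
  constructor
  · intro h
    have := congrArg (QuotientGroup.mk' Z) h
    simpa using this
  · intro h
    have h1 : (x : G ⧸ Z) * u * (x : G ⧸ Z)⁻¹ = (u : G ⧸ Z) ^ 1 := by
      have h2 : (x : G ⧸ Z) * u = u * x := h
      rw [h2, mul_inv_cancel_right, pow_one]
    have h2 := H849.RIM.comm_of_comm hZ hZp hu h1
    rw [pow_one, mul_inv_eq_iff_eq_mul] at h2
    exact h2

/-- the characters over `c` vanish at the elements conjugate to a multiple by `z`, `c z ≠ 1` -/
theorem eq_zero_of_isConj {Z : Subgroup G} {c : Z →* ℂˣ} {χ : IrrCharacter G} (hχ : Lies Z c (χ : G → ℂ)) {g : G} {z : Z}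
    (hz : c z ≠ 1) (h : IsConj g (g * z)) : (χ : G → ℂ) g = 0 := by
  have h1 : (χ : G → ℂ) g = (χ : G → ℂ) (g * z) := H894.J4Two.apply_eq_of_isConj χ.2 h
  rw [hχ g z] at h1
  have h2 : (χ : G → ℂ) g * (1 - (c z : ℂ)) = 0 := by linear_combination h1
  rcases mul_eq_zero.1 h2 with h3 | h3
  · exact h3
  · exact absurd (Units.ext (by rw [Units.val_one]; exact (sub_eq_zero.1 h3).symm)) hz

theorem sum_normSq {χ : G → ℂ} (hχ : IsCharacter G χ) (H : Subgroup G) [Fintype H] :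
    ∃ m : ℕ, ∑ x : H, χ x * conj (χ x) = m * (Nat.card H : ℂ) := by
  obtain ⟨m, hm⟩ := SmallSimple.TheoremBCor.exists_sum_eq (isCharacter_mul hχ (isCharacter_conj hχ)) H
  exact ⟨m, hm⟩

section

variable [Fintype (IrrCharacter G)]

/-- the column of a rational element of prime order -/
theorem exists_val {p : ℕ} [hpF : Fact p.Prime] {Z : Subgroup G} [Z.Normal] (hZ : Z ≤ center G)
    (hZp : ¬ p ∣ Nat.card Z) {y : G ⧸ Z} (hy : orderOf y = p) (hr : ∀ w ∈ zpowers y, w ≠ 1 → IsConj w y) (c : Z →* ℂˣ) :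
    ∃ (u : G) (A : IrrCharacter G → ℤ), (u : G ⧸ Z) = y ∧ orderOf u = p ∧ IsCol (zpowers u) (p - 1) A ∧ Lin Z A ∧
      (∀ χ : IrrCharacter G, (χ : G → ℂ) u = A χ) ∧
      (∑ χ ∈ ov Z c, A χ * A χ = (Nat.card (centralizer ({y} : Set (G ⧸ Z))) : ℤ)) ∧
      (∑ χ ∈ ov Z c, (deg χ : ℤ) * A χ = 0) := by
  have hp : p.Prime := Fact.out
  obtain ⟨u, rfl, hu⟩ := H849.RIM.exists_lift hZp hy
  have hcop : p.Coprime (Nat.card Z) := (hp.coprime_iff_not_dvd).2 hZp
  have hrat : ∀ w ∈ zpowers u, w ≠ 1 → IsConj w u := by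
    intro w hw hw1
    have hwo : orderOf w = p := by
      have h1 : orderOf w ∣ p := by
        rw [← hu]
        exact orderOf_dvd_of_mem_zpowers hw
      rcases (Nat.dvd_prime hp).1 h1 with h2 | h2
      · exact absurd (orderOf_eq_one_iff.1 h2) hw1
      · exact h2
    refine isConj_of_quot hZ (by rw [hwo]; exact hcop) (by rw [hu]; exact hcop) (hr _ ?_ ?_)
    · obtain ⟨k, rfl⟩ := mem_zpowers_iff.1 hw
      rw [QuotientGroup.mk_zpow]
      exact zpow_mem (mem_zpowers _) k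
    · intro h
      rw [QuotientGroup.eq_one_iff] at h
      have h3 : orderOf (⟨w, h⟩ : Z) ∣ Nat.card Z := orderOf_dvd_natCard _
      rw [← orderOf_coe, Subgroup.coe_mk, hwo] at h3
      exact hZp h3
  obtain ⟨A, hA, hv, hs⟩ := H894.J4Two.exists_col_rat hp hu hrat
  have hlin : Lin Z A := lin_val (by rw [hu]; exact hcop) hv
  refine ⟨u, A, rfl, hu, hA, hlin, hv, ?_, ?_⟩
  · refine sum_eq hZ c hlin hlin ?_
    rw [hs, card_cent_quot hZ hZp hu]
    push_cast
    ring
  · refine sum_eq hZ c (lin_deg Z) hlin ?_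
    rw [mul_zero, ← hA.deg (Nat.sub_ne_zero_of_lt hp.one_lt)]
    exact Finset.sum_congr rfl fun χ _ => mul_comm _ _

/-- columns of different primes -/
theorem cross {Z : Subgroup G} (hZ : Z ≤ center G) (c : Z →* ℂˣ) {H K : Subgroup G} {e f p q : ℕ} (hp : p.Prime)
    (hq : q.Prime) (hpq : p ≠ q) (hH : Nat.card H = p) (hK : Nat.card K = q) {W W' : IrrCharacter G → ℤ}
    (hW : IsCol H e W) (hW' : IsCol K f W') (he : e ≠ 0) (hf : f ≠ 0) (hl : Lin Z W) (hl' : Lin Z W') :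
    ∑ χ ∈ ov Z c, W χ * W' χ = 0 := by
  refine sum_eq hZ c hl hl' ?_
  rw [mul_zero]
  exact hW.orth hW' he hf (H894.J4Two.nc_of_card hp hq hpq hH hK)

end

end Cfsg.Agent.H535.RIM
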